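import Cfsg.Agent.H503.El.O83Mat

/-!
# S3502, `PΩ⁺₈(3)`: explicit matrices of elements of orders 7, 14 (helper42)
-/

set_option autoImplicit false
set_option maxRecDepth 100000

namespace Cfsg.Agent.H42.Otp

open Cfsg.Agent.H503.El.O83 Matrix

def A5 : M8 := Matrix.fromBlocks !![2,0,2,1; 0,0,1,2; 0,0,0,0; 1,0,2,1] !![1,2,0,1; 2,0,0,0; 0,0,1,1; 1,0,1,0] !![2,2,1,2; 2,1,1,2; 1,1,1,0; 2,2,0,0] !![2,0,0,1; 0,0,0,0; 2,1,0,2; 1,2,0,1]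
def B5 : M8 := Matrix.fromBlocks !![0,2,2,0; 0,0,1,2; 2,1,2,0; 2,1,0,1] !![1,0,0,2; 0,0,1,1; 0,1,1,0; 2,1,0,1] !![2,1,1,2; 1,2,1,0; 1,1,0,1; 2,0,1,0] !![0,0,2,2; 2,0,1,1; 2,1,2,0; 0,2,0,1]
def A6 : M8 := Matrix.fromBlocks !![0,0,0,2; 0,1,0,0; 2,2,1,1; 1,2,1,1] !![1,0,0,0; 0,0,0,0; 0,0,1,2; 0,0,2,1] !![2,2,1,1; 2,0,0,0; 1,0,1,2; 1,0,2,2] !![0,0,2,1; 0,1,2,2; 0,0,1,1; 2,0,1,1]
def B6 : M8 := Matrix.fromBlocks !![0,0,1,1; 1,2,1,2; 0,0,1,1; 2,0,1,1] !![0,1,0,0; 1,1,2,2; 0,2,2,1; 0,2,1,2] !![2,2,2,2; 2,0,1,1; 2,1,0,0; 2,1,0,2] !![0,1,0,2; 0,2,0,0; 1,1,1,1; 1,2,1,1]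
def A7 : M8 := Matrix.fromBlocks !![1,2,0,0; 1,1,0,1; 2,1,0,1; 1,2,0,2] !![1,1,1,2; 1,2,0,0; 1,0,0,1; 2,0,1,2] !![1,1,0,1; 1,2,0,1; 0,0,1,1; 1,1,1,2] !![1,1,2,1; 2,1,1,2; 0,0,0,0; 0,1,1,2]
def B7 : M8 := Matrix.fromBlocks !![2,1,1,2; 1,0,2,2; 2,2,0,1; 2,1,1,2] !![2,0,0,1; 0,0,1,2; 0,1,1,1; 1,2,1,2] !![2,0,0,1; 0,0,0,0; 0,0,0,0; 1,0,0,2] !![2,1,2,2; 1,0,2,1; 1,2,0,1; 2,2,1,2]
def A8 : M8 := Matrix.fromBlocks !![0,2,1,1; 0,1,0,0; 2,2,2,1; 0,2,1,1] !![1,1,1,0; 1,0,1,1; 1,1,1,0; 0,1,0,1] !![2,0,0,1; 0,0,0,0; 0,0,0,0; 1,0,0,2] !![0,0,2,0; 2,1,2,2; 1,0,2,1; 1,0,1,1]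
def B8 : M8 := Matrix.fromBlocks !![1,2,0,2; 1,2,2,2; 1,2,2,2; 2,1,1,1] !![2,1,0,1; 1,0,0,1; 0,0,0,0; 1,1,0,0] !![2,1,1,1; 1,2,0,0; 1,0,1,1; 1,0,1,2] !![1,1,1,2; 2,2,2,1; 0,2,2,1; 2,2,2,1]
def A9 : M8 := Matrix.fromBlocks !![2,1,0,0; 0,1,1,2; 1,2,0,1; 1,1,1,0] !![1,1,2,1; 1,2,1,0; 2,1,2,2; 1,0,2,0] !![0,0,0,0; 0,2,1,2; 0,1,1,2; 0,2,2,1] !![2,0,1,1; 1,1,2,1; 0,1,0,1; 0,2,1,0]
def B9 : M8 := Matrix.fromBlocks !![2,0,2,1; 0,0,0,0; 1,2,1,0; 1,2,1,0] !![1,1,0,1; 1,2,1,2; 0,1,1,1; 1,2,1,2] !![1,2,1,0; 2,1,0,0; 1,0,0,1; 0,0,1,1] !![2,0,1,1; 0,0,2,2; 2,0,1,1; 1,0,0,0]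

theorem A5_sq : A5 * A5 = 1 := by decide +kernel
theorem B5_sq : B5 * B5 = 1 := by decide +kernel
theorem A6_sq : A6 * A6 = 1 := by decide +kernel
theorem B6_sq : B6 * B6 = 1 := by decide +kernel
theorem A7_sq : A7 * A7 = 1 := by decide +kernel
theorem B7_sq : B7 * B7 = 1 := by decide +kernel
theorem A8_sq : A8 * A8 = 1 := by decide +kernel
theorem B8_sq : B8 * B8 = 1 := by decide +kernel
theorem A9_sq : A9 * A9 = 1 := by decide +kernel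
theorem B9_sq : B9 * B9 = 1 := by decide +kernel

theorem A5_j : A5.transpose * J8 * A5 = J8 := by decide +kernel
theorem B5_j : B5.transpose * J8 * B5 = J8 := by decide +kernel
theorem A6_j : A6.transpose * J8 * A6 = J8 := by decide +kernel
theorem B6_j : B6.transpose * J8 * B6 = J8 := by decide +kernel
theorem A7_j : A7.transpose * J8 * A7 = J8 := by decide +kernel
theorem B7_j : B7.transpose * J8 * B7 = J8 := by decide +kernel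
theorem A8_j : A8.transpose * J8 * A8 = J8 := by decide +kernel
theorem B8_j : B8.transpose * J8 * B8 = J8 := by decide +kernel
theorem A9_j : A9.transpose * J8 * A9 = J8 := by decide +kernel
theorem B9_j : B9.transpose * J8 * B9 = J8 := by decide +kernel

/-- order 14 -/
def Y5 : M8 := A5 * B5 * A5 * B5
/-- `Z5 ^ 14 = -1` -/
def Z5 : M8 := (A6 * B6 * A6 * B6) * (A7 * B7 * A7 * B7)
/-- the conjugating matrix -/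
def G5 : M8 := (A8 * B8 * A8 * B8) * (A9 * B9 * A9 * B9)

/-- the seventh power of a matrix, in few multiplications -/
def p7 (M : M8) : M8 := M * ((M * M) * ((M * M) * (M * M)))

theorem p7_eq (M : M8) : p7 M = M ^ 7 := by
  unfold p7
  simp only [← pow_two, ← pow_mul, ← pow_add, ← pow_succ']
  rfl

theorem Y5_a : Y5 * Y5 ≠ 1 ∧ Y5 * Y5 ≠ -1 ∧ p7 Y5 ≠ 1 ∧ p7 Y5 ≠ -1 := by decide +kernel
theorem Y5_b : p7 Y5 * p7 Y5 = 1 := by decide +kernel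
theorem Z5_a : Z5 * Z5 ≠ -1 := by decide +kernel
theorem Z5_b : p7 Z5 * p7 Z5 = -1 := by decide +kernel
theorem G5_a : G5 * (Y5 * Y5) = (Y5 * Y5) * ((Y5 * Y5) * (Y5 * Y5)) * G5 := by decide +kernel

end Cfsg.Agent.H42.Otp
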