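import Cfsg.Agent.H503.El.O83
import Cfsg.Agent.H439.Der.Three
import Cfsg.Agent.H42.Otp.Mat

/-!
# S3502, `PΩ⁺₈(3)`: a subgroup of order prime to 7 misses three classes (helper42)
-/

set_option autoImplicit false

namespace Cfsg.Agent.H42.Otp

open Subgroup Cfsg.Agent.H503.El.O83 Cfsg.Agent

/-- the elements -/
def y5 : S8 := comOf A5 B5 A5_sq B5_sq A5_j B5_j
def z5 : S8 := comOf A6 B6 A6_sq B6_sq A6_j B6_j * comOf A7 B7 A7_sq B7_sq A7_j B7_j
def g5 : S8 := comOf A8 B8 A8_sq B8_sq A8_j B8_j * comOf A9 B9 A9_sq B9_sq A9_j B9_j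

theorem rho_y5 : rho y5 = Y5 := rho_comOf _ _ _ _ _ _
theorem rho_z5 : rho z5 = Z5 := by
  unfold z5
  rw [map_mul, rho_comOf, rho_comOf, Z5]
theorem rho_g5 : rho g5 = G5 := by
  unfold g5
  rw [map_mul, rho_comOf, rho_comOf, G5]

attribute [irreducible] y5 z5 g5
attribute [local irreducible] Y5 Z5 G5

theorem pr_eq_one {a : S8} (h : rho a = 1 ∨ rho a = -1) : pr a = 1 := by
  have h1 : a ∈ center S8 := by
    rw [mem_center_iff]
    intro b
    apply rho_injective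
    rw [map_mul, map_mul]
    rcases h with h | h <;> rw [h]
    · rw [mul_one, one_mul]
    · rw [mul_neg, neg_mul, mul_one, one_mul]
  exact (QuotientGroup.eq_one_iff a).2 h1

theorem of_pr_eq_one {a : S8} (h : pr a = 1) : rho a = 1 ∨ rho a = -1 := by
  have h1 : pr 1 = pr a := by rw [h, map_one]
  have h2 := pr_eq h1
  rwa [map_one] at h2

theorem order_y5 : orderOf (pr y5) = 14 := by
  rw [orderOf_eq_iff (by norm_num)]
  have h14 : pr y5 ^ 14 = 1 := by
    rw [← map_pow]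
    apply pr_eq_one
    left
    rw [map_pow, rho_y5, show 14 = 7 + 7 from rfl, pow_add, ← p7_eq, Y5_b]
  refine ⟨h14, fun m hm hm0 hpow => ?_⟩
  -- the order divides `gcd m 14`
  have h1 : orderOf (pr y5) ∣ Nat.gcd m 14 := Nat.dvd_gcd (orderOf_dvd_of_pow_eq_one hpow) (orderOf_dvd_of_pow_eq_one h14)
  have h2 : Nat.gcd m 14 ∣ 2 ∨ Nat.gcd m 14 ∣ 7 := by interval_cases m <;> decide
  rcases h2 with h2 | h2
  · have h3 := orderOf_dvd_iff_pow_eq_one.1 (h1.trans h2)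
    rw [← map_pow] at h3
    rcases of_pr_eq_one h3 with h4 | h4 <;> rw [map_pow, rho_y5, pow_two] at h4
    · exact Y5_a.1 h4
    · exact Y5_a.2.1 h4
  · have h3 := orderOf_dvd_iff_pow_eq_one.1 (h1.trans h2)
    rw [← map_pow] at h3
    rcases of_pr_eq_one h3 with h4 | h4 <;> rw [map_pow, rho_y5, ← p7_eq] at h4
    · exact Y5_a.2.2.1 h4
    · exact Y5_a.2.2.2 h4

theorem z5_pow : rho z5 ^ 14 = -1 := by
  rw [rho_z5, show 14 = 7 + 7 from rfl, pow_add, ← p7_eq, Z5_b]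

theorem order_z5 : orderOf (pr z5) = 14 := by
  rw [orderOf_eq_iff (by norm_num)]
  have h14 : pr z5 ^ 14 = 1 := by
    rw [← map_pow]
    apply pr_eq_one
    right
    rw [map_pow, z5_pow]
  refine ⟨h14, fun m hm hm0 hpow => ?_⟩
  have h1 : orderOf (pr z5) ∣ Nat.gcd m 14 := Nat.dvd_gcd (orderOf_dvd_of_pow_eq_one hpow) (orderOf_dvd_of_pow_eq_one h14)
  have h2 : Nat.gcd m 14 ∣ 2 ∨ Nat.gcd m 14 ∣ 7 := by interval_cases m <;> decide
  rcases h2 with h2 | h2
  · have h3 := orderOf_dvd_iff_pow_eq_one.1 (h1.trans h2)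
    rw [← map_pow] at h3
    rcases of_pr_eq_one h3 with h4 | h4 <;> rw [map_pow] at h4
    · have h5 := z5_pow
      rw [show 14 = 2 * 7 from rfl, pow_mul, h4, one_pow] at h5
      exact neg_one_ne h5.symm
    · rw [rho_z5, pow_two] at h4
      exact Z5_a h4
  · have h3 := orderOf_dvd_iff_pow_eq_one.1 (h1.trans h2)
    rw [← map_pow] at h3
    have h5 := z5_pow
    rw [show 14 = 7 * 2 from rfl, pow_mul, ← map_pow] at h5
    rcases of_pr_eq_one h3 with h4 | h4 <;> rw [h4] at h5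
    · rw [one_pow] at h5; exact neg_one_ne h5.symm
    · rw [neg_one_sq] at h5; exact neg_one_ne h5.symm

/-- the two classes of elements of order 14 -/
theorem y5_z5 (g : T8) : g * pr y5 * g⁻¹ ≠ pr z5 := by
  intro h
  obtain ⟨g', rfl⟩ := pr_surjective g
  rw [← map_inv, ← map_mul, ← map_mul] at h
  have h1 : rho (g' * y5 * g'⁻¹) ^ 14 = 1 := by
    rw [← map_pow, conj_pow, map_mul, map_mul, map_pow, rho_y5, show 14 = 7 + 7 from rfl, pow_add, ← p7_eq, Y5_b,
      mul_one, ← map_mul, mul_inv_cancel, map_one]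
  have h2 := z5_pow
  rcases pr_eq h with h3 | h3 <;> rw [h3] at h2
  · rw [h1] at h2; exact neg_one_ne h2.symm
  · rw [Even.neg_pow (by decide), h1] at h2; exact neg_one_ne h2.symm

theorem order_x5 : orderOf (pr y5 ^ 2) = 7 := by
  rw [orderOf_pow, order_y5]
  rfl

/-- **(B)** -/
theorem threeT_seven (R : Subgroup T8) (h : ¬ 7 ∣ Nat.card R) : H439.Der.ThreeT T8 R := by
  have key : ∀ x : T8, 7 ∣ orderOf x → ∀ g : T8, g * x * g⁻¹ ∉ R := by
    intro x hx g hg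
    apply h
    have h1 : orderOf (⟨g * x * g⁻¹, hg⟩ : R) ∣ Nat.card R := orderOf_dvd_natCard _
    rw [Subgroup.orderOf_mk, ← MulAut.conj_apply, MulEquiv.orderOf_eq] at h1
    exact hx.trans h1
  have hne : ∀ x y : T8, orderOf x ≠ orderOf y → ∀ g : T8, g * x * g⁻¹ ≠ y := by
    intro x y hxy g hg
    apply hxy
    rw [← hg, ← MulAut.conj_apply, MulEquiv.orderOf_eq]
  have k1 := key (pr y5 ^ 2) (by rw [order_x5])
  have k2 := key (pr y5) (by rw [order_y5]; norm_num)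
  have k3 := key (pr z5) (by rw [order_z5]; norm_num)
  have k4 := hne (pr y5 ^ 2) (pr y5) (by rw [order_x5, order_y5]; norm_num)
  have k5 := hne (pr y5 ^ 2) (pr z5) (by rw [order_x5, order_z5]; norm_num)
  unfold H439.Der.ThreeT
  exact ⟨pr y5 ^ 2, pr y5, pr z5, k1, k2, k3, k4, k5, y5_z5⟩

/-- **(x7)** an element of order 7 conjugate to its cube -/
theorem x7 : ∃ x g : T8, orderOf x = 7 ∧ g * x * g⁻¹ = x ^ 3 := by
  have h : g5 * y5 ^ 2 = (y5 ^ 2) ^ 3 * g5 := by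
    apply rho_injective
    have h0 : rho (y5 ^ 2) = Y5 * Y5 := by rw [map_pow, rho_y5, pow_two]
    rw [map_mul, map_mul, map_pow _ (y5 ^ 2) 3, h0, rho_g5, G5_a, pow_succ' (Y5 * Y5) 2, pow_two (Y5 * Y5)]
  have h2 : pr g5 * pr y5 ^ 2 = (pr y5 ^ 2) ^ 3 * pr g5 := by
    have h1 := congrArg pr h
    rwa [map_mul, map_mul, map_pow, map_pow] at h1
  exact ⟨pr y5 ^ 2, pr g5, order_x5, mul_inv_eq_iff_eq_mul.2 h2⟩

end Cfsg.Agent.H42.Otp
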